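import Mathlib

/-!
# Minors of an integer matrix

* `sum_det_sq`: Cauchy–Binet over ordered tuples of rows;
* `factorial_le_card_nonvanishing`: if no row is a coloop, at least `(m + 1)!` tuples of `m` rows
  stay independent with a given nonzero vector;
* `pow_dvd_det`: a matrix of rank at most one modulo `p` has determinant divisible by `p ^ m`.
-/

set_option autoImplicit false
open Matrix

namespace CfsgLib.Blocks.Compound

variable {ι : Type*} [Fintype ι]

/-- Cauchy–Binet over ordered tuples. -/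
theorem sum_det_sq {l : ℕ} {K : Type*} [CommRing K] (U : Matrix ι (Fin l) K) :
    ∑ F : Fin l → ι, (U.submatrix F id).det ^ 2 = (Nat.factorial l : K) * (Uᵀ * U).det := by
  classical
  have e : ∀ F : Fin l → ι, (U.submatrix F id).det ^ 2 =
      ∑ σ : Equiv.Perm (Fin l), ((Equiv.Perm.sign σ : ℤ) : K) *
        ∑ τ : Equiv.Perm (Fin l), ((Equiv.Perm.sign τ : ℤ) : K) *
          ∏ i, U (F i) (σ i) * U (F i) (τ i) := fun F => by
    rw [sq]
    conv_lhs =>
      rw [← Matrix.det_transpose, Matrix.det_apply', Finset.sum_mul_sum]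
    refine Finset.sum_congr rfl fun σ _ => ?_
    rw [Finset.mul_sum]
    refine Finset.sum_congr rfl fun τ _ => ?_
    simp only [Matrix.transpose_apply, Matrix.submatrix_apply, id_eq, Finset.prod_mul_distrib]
    ring
  simp only [e, Finset.mul_sum]
  rw [Finset.sum_comm, Finset.sum_congr rfl fun σ _ => Finset.sum_comm]
  have e2 : ∀ σ τ : Equiv.Perm (Fin l), ∑ F : Fin l → ι, ((Equiv.Perm.sign σ : ℤ) : K) *
      (((Equiv.Perm.sign τ : ℤ) : K) * ∏ i, U (F i) (σ i) * U (F i) (τ i)) =
      ((Equiv.Perm.sign σ : ℤ) : K) * (((Equiv.Perm.sign τ : ℤ) : K) *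
        ∏ i, (Uᵀ * U) (σ i) (τ i)) := fun σ τ => by
    simp only [← Finset.mul_sum, Matrix.mul_apply, Matrix.transpose_apply]
    rw [Fintype.prod_sum]
  simp only [e2]
  have e3 : ∀ σ : Equiv.Perm (Fin l), ∑ τ : Equiv.Perm (Fin l), ((Equiv.Perm.sign σ : ℤ) : K) *
      (((Equiv.Perm.sign τ : ℤ) : K) * ∏ i, (Uᵀ * U) (σ i) (τ i)) = (Uᵀ * U).det := fun σ => by
    rw [← Finset.mul_sum]
    have h : ∑ τ : Equiv.Perm (Fin l), ((Equiv.Perm.sign τ : ℤ) : K) *
        ∏ i, (Uᵀ * U) (σ i) (τ i) = ((Uᵀ * U).submatrix σ id).det := by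
      rw [← Matrix.det_transpose, Matrix.det_apply']
      rfl
    rw [h, Matrix.det_permute, ← mul_assoc, ← Int.cast_mul, Int.units_coe_mul_self, Int.cast_one,
      one_mul]
  rw [Finset.sum_congr rfl fun σ _ => e3 σ, Finset.sum_const, Finset.card_univ, Fintype.card_perm,
    Fintype.card_fin, nsmul_eq_mul]

theorem li_cons_zero {n : ℕ} {x : Fin n → ℂ} (hx : x ≠ 0) (v : Fin 0 → Fin n → ℂ) :
    LinearIndependent ℂ (Fin.cons x v : Fin (0 + 1) → Fin n → ℂ) :=
  linearIndependent_finCons.2 ⟨linearIndependent_empty_type, by simp [hx]⟩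

/-- Many tuples of rows stay independent with a given vector. -/
theorem factorial_le_card_nonvanishing {m : ℕ} (U : Matrix ι (Fin (m + 1)) ℂ)
    (hι : m ≠ 0 → Nonempty ι) (hU : m ≠ 0 → ∀ ξ : ι, ∀ v : Fin (m + 1) → ℂ, (∀ η, η ≠ ξ → U η ⬝ᵥ v = 0) → v = 0)
    {x : Fin (m + 1) → ℂ} (hx : x ≠ 0) [DecidablePred fun f : Fin m → ι =>
      (Matrix.of (Fin.cons x (fun i => U (f i)) : Fin (m + 1) → Fin (m + 1) → ℂ)).det ≠ 0] :
    Nat.factorial (m + 1) ≤ (Finset.univ.filter fun f : Fin m → ι =>
      (Matrix.of (Fin.cons x (fun i => U (f i)) : Fin (m + 1) → Fin (m + 1) → ℂ)).det ≠ 0).card := by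
  classical
  have hdet : ∀ f : Fin m → ι,
      (Matrix.of (Fin.cons x (fun i => U (f i)) : Fin (m + 1) → Fin (m + 1) → ℂ)).det ≠ 0 ↔
        LinearIndependent ℂ (Fin.cons x (fun i => U (f i)) : Fin (m + 1) → Fin (m + 1) → ℂ) := by
    intro f
    rw [← isUnit_iff_ne_zero, ← Matrix.isUnit_iff_isUnit_det,
      ← Matrix.linearIndependent_rows_iff_isUnit]
    rfl
  rcases Nat.eq_zero_or_pos m with rfl | hm
  · refine Finset.card_pos.2 ⟨finZeroElim, Finset.mem_filter.2 ⟨Finset.mem_univ _, ?_⟩⟩
    rw [hdet]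
    exact li_cons_zero hx _
  have hU' := hU hm.ne'
  -- removing any row leaves a spanning set
  have hspan : ∀ ξ : ι, Submodule.span ℂ (U '' {η | η ≠ ξ}) = ⊤ := by
    intro ξ
    by_contra hne
    obtain ⟨φ, hφ, hker⟩ := Submodule.exists_le_ker_of_lt_top _ (lt_top_iff_ne_top.2 hne)
    refine hφ ?_
    have hv := hU' ξ (fun i => φ (Pi.single i 1)) fun η hη => by
      have h0 : φ (U η) = 0 := hker (Submodule.subset_span ⟨η, hη, rfl⟩)
      rw [← h0]
      conv_rhs => rw [pi_eq_sum_univ' (U η)]
      simp [dotProduct]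
    refine LinearMap.pi_ext' fun i => LinearMap.ext_ring ?_
    simpa using congrFun hv i
  have hout : ∀ (W : Submodule ℂ (Fin (m + 1) → ℂ)), W ≠ ⊤ → ∀ ξ, ∃ η, η ≠ ξ ∧ U η ∉ W := by
    intro W hW ξ
    by_contra hcon
    push Not at hcon
    apply hW
    rw [← top_le_iff, ← hspan ξ, Submodule.span_le]
    rintro _ ⟨η, hη, rfl⟩
    exact hcon η hη
  have hne_top : ∀ {k : ℕ} (v : Fin k → Fin (m + 1) → ℂ), k < m + 1 →
      Submodule.span ℂ (Set.range v) ≠ ⊤ := by
    intro k v hk h
    have h1 := finrank_range_le_card (R := ℂ) v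
    rw [Set.finrank, h, finrank_top, Module.finrank_fin_fun, Fintype.card_fin] at h1
    omega
  obtain ⟨ξ₀⟩ := hι hm.ne'
  -- a basis through `x`
  have hext : ∀ k ≤ m, ∃ f : Fin k → ι,
      LinearIndependent ℂ (Fin.cons x (fun i => U (f i)) : Fin (k + 1) → Fin (m + 1) → ℂ) := by
    intro k
    induction k with
    | zero => exact fun _ => ⟨finZeroElim, li_cons_zero hx _⟩
    | succ k ih =>
      intro hk
      obtain ⟨f, hf⟩ := ih (by omega)
      obtain ⟨η, -, hη⟩ := hout _ (hne_top _ (by omega : k + 1 < m + 1)) ξ₀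
      refine ⟨Fin.snoc f η, ?_⟩
      have h := hf.finSnoc hη
      rw [← Fin.cons_snoc_eq_snoc_cons] at h
      have e : (fun i => U ((Fin.snoc f η : Fin (k + 1) → ι) i)) = Fin.snoc (fun i => U (f i)) (U η) :=
        Fin.comp_snoc U f η
      rw [e]
      exact h
  obtain ⟨f₀, hf₀⟩ := hext m le_rfl
  -- exchanges
  have hex : ∀ j : Fin m, ∃ η, η ∉ Set.range f₀ ∧
      LinearIndependent ℂ
        (Fin.cons x (fun i => U (Function.update f₀ j η i)) : Fin (m + 1) → Fin (m + 1) → ℂ) := by
    intro j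
    set v : Fin (m + 1) → Fin (m + 1) → ℂ := Fin.cons x (fun i => U (f₀ i)) with hv
    set W := Submodule.span ℂ (Set.range fun i : {i : Fin (m + 1) // i ≠ j.succ} => v i) with hW
    have hWne : W ≠ ⊤ := by
      intro h
      have h1 := finrank_range_le_card (R := ℂ) fun i : {i : Fin (m + 1) // i ≠ j.succ} => v i
      rw [Set.finrank, ← hW, h, finrank_top, Module.finrank_fin_fun, Fintype.card_subtype_compl,
        Fintype.card_fin, Fintype.card_subtype_eq] at h1
      omega
    obtain ⟨η, hηne, hη⟩ := hout W hWne (f₀ j)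
    refine ⟨η, ?_, ?_⟩
    · rintro ⟨i, rfl⟩
      exact hη (Submodule.subset_span ⟨⟨i.succ, fun h => hηne (by rw [Fin.succ_inj.1 h])⟩,
        by simp [hv]⟩)
    · have e : (Fin.cons x (fun i => U (Function.update f₀ j η i)) : Fin (m + 1) → Fin (m + 1) → ℂ)
          = Function.update v j.succ (U η) := by
        rw [hv, ← Fin.cons_update]
        congr 1
        funext i
        by_cases hi : i = j <;> simp [hi]
      rw [e, Fintype.linearIndependent_iff]
      intro g hg
      rw [Fintype.sum_eq_add_sum_compl j.succ, Function.update_self] at hg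
      have hrest : ∀ i ∈ ({j.succ}ᶜ : Finset (Fin (m + 1))),
          Function.update v j.succ (U η) i = v i := fun i hi =>
        Function.update_of_ne (by simpa using hi) _ _
      rw [Finset.sum_congr rfl fun i hi => by rw [hrest i hi]] at hg
      have hgj : g j.succ = 0 := by
        by_contra hne
        apply hη
        have h2 : U η = (g j.succ)⁻¹ • -∑ i ∈ ({j.succ}ᶜ : Finset (Fin (m + 1))), g i • v i := by
          rw [← eq_neg_of_add_eq_zero_left hg, inv_smul_smul₀ hne]
        rw [h2]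
        exact W.smul_mem _ (W.neg_mem (Submodule.sum_mem _ fun i hi =>
          W.smul_mem _ (Submodule.subset_span ⟨⟨i, by simpa using hi⟩, rfl⟩)))
      intro i
      by_cases hi : i = j.succ
      · rw [hi, hgj]
      · have h3 : ∑ i, (if i = j.succ then 0 else g i) • v i = 0 := by
          rw [Fintype.sum_eq_add_sum_compl j.succ, if_pos rfl, zero_smul, zero_add]
          rw [hgj, zero_smul, zero_add] at hg
          rw [← hg]
          exact Finset.sum_congr rfl fun i hi => by rw [if_neg (by simpa using hi)]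
        have h4 := Fintype.linearIndependent_iff.1 hf₀ _ h3 i
        rwa [if_neg hi] at h4
  choose η hηout hηli using hex
  set fo : Option (Fin m) → Fin m → ι :=
    fun o => o.elim f₀ (fun j => Function.update f₀ j (η j)) with hfo
  have hfoli : ∀ o, LinearIndependent ℂ
      (Fin.cons x (fun i => U (fo o i)) : Fin (m + 1) → Fin (m + 1) → ℂ) := by
    rintro (_ | j)
    · exact hf₀
    · exact hηli j
  have hperm : ∀ o (σ : Equiv.Perm (Fin m)), LinearIndependent ℂ
      (Fin.cons x (fun i => U (fo o (σ i))) : Fin (m + 1) → Fin (m + 1) → ℂ) := by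
    intro o σ
    have h := (linearIndependent_finCons.1 (hfoli o))
    refine linearIndependent_finCons.2 ⟨h.1.comp σ σ.injective, fun hmem => h.2 ?_⟩
    rwa [show (fun i => U (fo o (σ i))) = (fun i => U (fo o i)) ∘ σ from rfl,
      σ.surjective.range_comp] at hmem
  have hinj0 : ∀ o, Function.Injective (fo o) := fun o =>
    ((linearIndependent_finCons.1 (hfoli o)).1.injective).of_comp (f := fun i => U i)
  have hinj : Function.Injective fun so : Equiv.Perm (Fin m) × Option (Fin m) => fo so.2 ∘ so.1 := by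
    rintro ⟨σ, o⟩ ⟨σ', o'⟩ h
    have hr : Set.range (fo o) = Set.range (fo o') := by
      have := congrArg Set.range h
      simpa [σ.surjective.range_comp, σ'.surjective.range_comp] using this
    have hno : ∀ j, η j ∈ Set.range (fo (some j)) := fun j => ⟨j, by simp [hfo]⟩
    have hout' : ∀ j, f₀ j ∉ Set.range (fo (some j)) := by
      rintro j ⟨i, hi⟩
      by_cases hij : i = j
      · subst hij
        exact hηout i ⟨i, by simpa [hfo] using hi.symm⟩
      · simp only [hfo, Option.elim_some, Function.update_of_ne hij] at hi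
        exact hij (hinj0 none (by simpa [hfo] using hi))
    have ho : o = o' := by
      rcases o with _ | j <;> rcases o' with _ | j'
      · rfl
      · exact absurd (hr ▸ hno j') (by simpa [hfo] using hηout j')
      · exact absurd (hr ▸ hno j) (by simpa [hfo] using hηout j)
      · by_contra hne
        refine hout' j (hr ▸ ⟨j, ?_⟩)
        have : j ≠ j' := fun h => hne (by rw [h])
        simp [hfo, Function.update_of_ne this]
    subst ho
    refine Prod.ext (Equiv.ext fun i => hinj0 o ?_) rfl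
    exact congrFun h i
  have hcount : (Finset.univ : Finset (Equiv.Perm (Fin m) × Option (Fin m))).card =
      Nat.factorial (m + 1) := by
    rw [Finset.card_univ, Fintype.card_prod, Fintype.card_perm, Fintype.card_option,
      Fintype.card_fin, Nat.factorial_succ, mul_comm]
  rw [← hcount]
  refine Finset.card_le_card_of_injOn (fun so : Equiv.Perm (Fin m) × Option (Fin m) => fo so.2 ∘ so.1)
    (fun so _ => ?_) hinj.injOn
  simp only [Finset.coe_filter, Finset.mem_univ, true_and, Set.mem_ofPred_eq]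
  exact (hdet (fo so.2 ∘ so.1)).2 (hperm so.2 so.1)

/-- A matrix congruent to a rank one matrix modulo `p` has determinant divisible by `p ^ m`. -/
theorem pow_dvd_det {m : ℕ} {p : ℤ} (hp : Prime p) (S : Matrix (Fin (m + 1)) (Fin (m + 1)) ℤ)
    (h : ∀ i j k l, p ∣ S i j * S k l - S i l * S k j) : p ^ m ∣ S.det := by
  classical
  by_cases h0 : ∀ i j, p ∣ S i j
  · choose T hT using h0
    have : S = p • Matrix.of T := by ext i j; simp [hT]
    rw [this, Matrix.det_smul, Fintype.card_fin, pow_succ, mul_assoc]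
    exact dvd_mul_right _ _
  push Not at h0
  obtain ⟨a, b, hab⟩ := h0
  choose T hT using fun i j => h i j a b
  set c : Fin (m + 1) → ℤ := fun i => S i b with hc
  set r : Fin (m + 1) → ℤ := fun j => S a j with hr
  have hA : ∀ i j, S a b * S i j = p * T i j + c i * r j := fun i j => by
    rw [← hT i j, hc, hr]; ring
  set X : Matrix (Fin (m + 1)) (Fin (m + 1)) ℤ := Matrix.of T with hX
  set cM : Matrix (Fin (m + 1)) (Fin 1) ℤ := Matrix.of fun i _ => c i with hcM
  set rM : Matrix (Fin 1) (Fin (m + 1)) ℤ := Matrix.of fun _ j => r j with hrM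
  set Z := Matrix.fromBlocks (p • X) (-cM) rM (1 : Matrix (Fin 1) (Fin 1) ℤ) with hZ
  have hdet : Z.det = (S a b • S).det := by
    rw [hZ, Matrix.det_fromBlocks_one₂₂]
    congr 1
    ext i j
    simp [hX, hcM, hrM, Matrix.mul_apply, hA]
  have hscale : p * Z.det = p ^ (m + 1) * (Matrix.fromBlocks X (-cM) rM (p • (1 : Matrix (Fin 1) (Fin 1) ℤ))).det := by
    have e : Z * Matrix.fromBlocks 1 0 0 (p • (1 : Matrix (Fin 1) (Fin 1) ℤ)) =
        Matrix.fromBlocks (p • (1 : Matrix (Fin (m + 1)) (Fin (m + 1)) ℤ)) 0 0 1 *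
          Matrix.fromBlocks X (-cM) rM (p • (1 : Matrix (Fin 1) (Fin 1) ℤ)) := by
      rw [hZ, Matrix.fromBlocks_multiply, Matrix.fromBlocks_multiply]
      simp only [Matrix.mul_one, Matrix.one_mul, Matrix.mul_zero, Matrix.zero_mul, add_zero,
        zero_add, Matrix.mul_smul, Matrix.smul_mul, smul_neg, smul_zero]
    have := congrArg Matrix.det e
    rw [Matrix.det_mul, Matrix.det_mul, Matrix.det_fromBlocks_zero₁₂, Matrix.det_fromBlocks_zero₁₂,
      Matrix.det_smul, Matrix.det_smul, Matrix.det_one, Matrix.det_one, Fintype.card_fin,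
      Fintype.card_fin] at this
    simpa [mul_comm] using this
  rw [hdet, Matrix.det_smul, Fintype.card_fin, pow_succ' p m, mul_assoc p] at hscale
  have h1 := mul_left_cancel₀ hp.ne_zero hscale
  refine hp.pow_dvd_of_dvd_mul_left m (a := S a b ^ (m + 1))
    (fun hd => hab (hp.dvd_of_dvd_pow hd)) ?_
  exact ⟨_, h1⟩

end CfsgLib.Blocks.Compound
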