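import Cfsg.Agent.Blocks.Subsection.Lattice
import Cfsg.Agent.Blocks.Subsection.Compound
import Cfsg.Agent.Blocks.Subsection.CycloNorm
import Cfsg.Agent.Blocks.Subsection.MajorRankTwo

/-!
# Subsections with a central element of order `p`

If `z` is central of order `p` in the centralizer `H` of a `p`-element, the rows of the block `b`
trivial on `z` carry a `p`-th of its Cartan matrix, whose determinant then bounds the number of
characters with a nonvanishing contribution.
-/

set_option autoImplicit false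
open Cfsg CfsgLib Polynomial Matrix
open CfsgLib.Blocks.HeightZero
open scoped ComplexConjugate

namespace CfsgLib.Blocks.Contrib

universe u

section rows

variable {K : Type u} [Group K] [Fintype K] {p : ℕ} {M : Ideal AlgInt} {b : Set (IrrCharacter K)}

/-- The characters trivial on a central element of order `p` carry a `p`-th of the pairings. -/
theorem regPair_mul_sum_central (hM : IsPModular p M) (hb : IsPBlock M b) {z : K}
    (hz : z ∈ Subgroup.center K) (hzp : orderOf z = p) {ξ θ : IrrCharacter K} (hθ : θ ∈ b)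
    [DecidablePred fun η : IrrCharacter K => (η : K → ℂ) z = (η : K → ℂ) 1] :
    (p : ℂ) * ∑ η ∈ b.toFinite.toFinset.filter (fun η : IrrCharacter K => (η : K → ℂ) z = (η : K → ℂ) 1),
        regPair p (ξ : K → ℂ) (η : K → ℂ) * regPair p (η : K → ℂ) (θ : K → ℂ) =
      (Nat.card K : ℂ) * regPair p (ξ : K → ℂ) (θ : K → ℂ) := by
  classical
  have hp := hM.1
  set w : IrrCharacter K → ℂ := fun η => (η : K → ℂ) z / (η : K → ℂ) 1 with hw
  have hpow : ∀ (η : IrrCharacter K) (i : ℕ) (x : K),
      (η : K → ℂ) (z ^ i * x) = w η ^ i * (η : K → ℂ) x := by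
    intro η i
    induction i with
    | zero => intro x; simp
    | succ i ih =>
      intro x
      rw [pow_succ, mul_assoc, ih, Chars.map_mul_of_mem_center η hz x, pow_succ, mul_assoc]
  have hwp : ∀ η, w η ^ p = 1 := fun η => by
    have h := hpow η p 1
    rw [← hzp, pow_orderOf_eq_one, one_mul] at h
    rw [← hzp]
    exact mul_right_cancel₀ (Chars.map_one_ne_zero η) (by rw [one_mul]; exact h.symm)
  have hind : ∀ η, ∑ i ∈ Finset.range p, w η ^ i =
      if (η : K → ℂ) z = (η : K → ℂ) 1 then (p : ℂ) else 0 := fun η => by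
    split_ifs with h
    · simp [hw, h, div_self (Chars.map_one_ne_zero η)]
    · have h1 : w η ≠ 1 := fun h1 => h ((div_eq_one_iff_eq (Chars.map_one_ne_zero η)).1 h1)
      rw [geom_sum_eq h1, hwp, sub_self, zero_div]
  set F : K → ℂ := pRegularPart p (ξ : K → ℂ) with hF
  have hexp := Chars.eq_sum_classInner_smul
    (isClassFunction_pRegularPart (p := p) (Chars.isClassFunction_coe ξ))
  have hrp : ∀ η : IrrCharacter K, regPair p (ξ : K → ℂ) (η : K → ℂ) =
      (Nat.card K : ℂ) * classInner F (η : K → ℂ) := fun η => by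
    rw [regPair_eq_sum, classInner, ← mul_assoc, mul_inv_cancel₀ Chars.natCard_ne_zero, one_mul]
    refine Finset.sum_congr rfl fun x _ => ?_
    by_cases h : p ∣ orderOf x <;>
      simp [hF, pRegularPart, IsPRegular, h, Chars.map_inv_eq_conj (Chars.isCharacter_coe η)]
  -- translating by a nontrivial power kills the regular part
  have hshift : ∀ i ∈ Finset.range p,
      ∑ η : IrrCharacter K, w η ^ i *
        (regPair p (ξ : K → ℂ) (η : K → ℂ) * regPair p (η : K → ℂ) (θ : K → ℂ)) =
      if i = 0 then (Nat.card K : ℂ) * regPair p (ξ : K → ℂ) (θ : K → ℂ) else 0 := by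
    intro i hi
    have hkey : ∀ x : K, ¬ p ∣ orderOf x → ∑ η : IrrCharacter K,
        classInner F (η : K → ℂ) * (w η ^ i * (η : K → ℂ) x) =
          if i = 0 then (ξ : K → ℂ) x else 0 := by
      intro x hx
      simp only [← hpow]
      have h1 := congrFun hexp (z ^ i * x)
      simp only [Finset.sum_apply, Pi.smul_apply, smul_eq_mul] at h1
      rw [hF, ← h1]
      split_ifs with h0
      · simp [h0, pRegularPart, IsPRegular, hx]
      · have hord : orderOf (z ^ i) = p := by
          rw [orderOf_pow' z h0, hzp, Nat.Coprime.gcd_eq_one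
            ((hp.coprime_iff_not_dvd).2 fun hd => h0
              (Nat.eq_zero_of_dvd_of_lt hd (Finset.mem_range.1 hi))), Nat.div_one]
        have hc : Commute (z ^ i) x :=
          ((show Commute z x from (Subgroup.mem_center_iff.1 hz x).symm).pow_left i)
        have hco : Nat.Coprime (orderOf (z ^ i)) (orderOf x) := by
          rw [hord]; exact hp.coprime_iff_not_dvd.2 hx
        have : p ∣ orderOf (z ^ i * x) := by
          rw [hc.orderOf_mul_eq_mul_orderOf_of_coprime hco, hord]
          exact dvd_mul_right _ _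
        simp [pRegularPart, IsPRegular, this]
    have hexpand : ∀ η : IrrCharacter K, w η ^ i *
        (regPair p (ξ : K → ℂ) (η : K → ℂ) * regPair p (η : K → ℂ) (θ : K → ℂ)) =
        ∑ x : K, (Nat.card K : ℂ) * (if p ∣ orderOf x then 0 else
          classInner F (η : K → ℂ) * (w η ^ i * (η : K → ℂ) x) * (θ : K → ℂ) x⁻¹) := fun η => by
      rw [hrp η, regPair_eq_sum, Finset.mul_sum, Finset.mul_sum]
      refine Finset.sum_congr rfl fun x _ => ?_
      split_ifs <;> ring
    rw [Finset.sum_congr rfl fun η _ => hexpand η, Finset.sum_comm]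
    have hcol : ∀ x : K, (∑ η : IrrCharacter K, (Nat.card K : ℂ) * (if p ∣ orderOf x then 0 else
          classInner F (η : K → ℂ) * (w η ^ i * (η : K → ℂ) x) * (θ : K → ℂ) x⁻¹)) =
        if i = 0 then (Nat.card K : ℂ) * (if p ∣ orderOf x then 0 else
          (ξ : K → ℂ) x * (θ : K → ℂ) x⁻¹) else 0 := fun x => by
      by_cases hx : p ∣ orderOf x
      · simp [hx]
      · simp only [hx, if_false, ← Finset.mul_sum, ← Finset.sum_mul, hkey x hx]
        split_ifs <;> ring
    rw [Finset.sum_congr rfl fun x _ => hcol x]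
    split_ifs
    · rw [regPair_eq_sum, Finset.mul_sum]
    · exact Finset.sum_const_zero
  calc (p : ℂ) * ∑ η ∈ b.toFinite.toFinset.filter (fun η : IrrCharacter K => (η : K → ℂ) z = (η : K → ℂ) 1),
        regPair p (ξ : K → ℂ) (η : K → ℂ) * regPair p (η : K → ℂ) (θ : K → ℂ)
      = ∑ η : IrrCharacter K, ∑ i ∈ Finset.range p, w η ^ i *
          (regPair p (ξ : K → ℂ) (η : K → ℂ) * regPair p (η : K → ℂ) (θ : K → ℂ)) := by
        simp only [← Finset.sum_mul, hind]
        rw [Finset.mul_sum, Finset.sum_filter]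
        refine (Finset.sum_subset (Finset.subset_univ _) fun η _ hη => ?_).trans
          (Finset.sum_congr rfl fun η _ => ?_)
        · rw [regPair_eq_zero_of_ne_block hM hb hθ
            (fun h => hη ((Set.Finite.mem_toFinset _).2 h))]
          simp
        · split_ifs <;> ring
    _ = ∑ i ∈ Finset.range p,
          if i = 0 then (Nat.card K : ℂ) * regPair p (ξ : K → ℂ) (θ : K → ℂ) else 0 := by
        rw [Finset.sum_comm]
        exact Finset.sum_congr rfl hshift
    _ = _ := by rw [Finset.sum_ite_eq' (Finset.range p) 0, if_pos (Finset.mem_range.2 hp.pos)]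

/-- The scaled pairings have rank one modulo `p`. -/
theorem dvd_minor_scaledPair (hM : IsPModular p M) (hb : IsPBlock M b)
    (R : Matrix b.toFinite.toFinset b.toFinite.toFinset ℤ)
    (hR : ∀ ξ η, (R ξ η : ℂ) = (p : ℂ) ^ blockDefect p b / (Nat.card K : ℂ) *
      regPair p ((ξ : IrrCharacter K) : K → ℂ) ((η : IrrCharacter K) : K → ℂ))
    (i j k l : b.toFinite.toFinset) : (p : ℤ) ∣ R i j * R k l - R i l * R k j := by
  classical
  have := isMaximal_of_isPModular hM
  set σ : IrrCharacter K → ℂ :=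
    fun η => (p : ℂ) ^ blockDefect p b / (Nat.card K : ℂ) * (η : K → ℂ) 1 with hσ
  set c : IrrCharacter K → IrrCharacter K → ℂ :=
    fun ξ η => regPair p (ξ : K → ℂ) (η : K → ℂ) / (η : K → ℂ) 1 with hc
  have hmem : ∀ ξ : b.toFinite.toFinset, (ξ : IrrCharacter K) ∈ b :=
    fun ξ => (Set.Finite.mem_toFinset _).1 ξ.2
  have hcloc : ∀ ξ η : IrrCharacter K, MemLocalRing M (c ξ η) := fun ξ η =>
    memLocalRing_regPair hM (Chars.isClassFunction_coe ξ)
      (fun x _ => memLocalRing_apply (Chars.isCharacter_coe ξ) x) η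
  have hcc : ∀ (ξ : IrrCharacter K) (η η' : b.toFinite.toFinset), Congr M (c ξ η) (c ξ η') :=
    fun ξ η η' => congr_regPair hM (Chars.isClassFunction_coe ξ)
      (fun x _ => memLocalRing_apply (Chars.isCharacter_coe ξ) x) hb (hmem η) (hmem η')
  have hRc : ∀ ξ η : b.toFinite.toFinset, (R ξ η : ℂ) = σ η * c ξ η := fun ξ η => by
    rw [hR, hσ, hc]
    field_simp [Chars.map_one_ne_zero (η : IrrCharacter K)]
  rw [← intCast_mem_iff hM, ← memLocalIdeal_coe_iff (M := M)]
  have e : (((R i j * R k l - R i l * R k j : ℤ) : AlgInt) : ℂ) =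
      σ j * σ l * (c i j * c k l - c i l * c k j) := by
    push_cast
    rw [hRc, hRc, hRc, hRc]
    ring
  rw [e]
  have hmain : Congr M (c i j * c k l) (c i l * c k j) :=
    Congr.mul (hcc i j l) (hcc k l j) (hcloc _ _) (hcloc _ _)
  have hσj : ∀ η : b.toFinite.toFinset, MemLocalRing M (σ η) := fun η => by
    have h := memLocalRing_natCast_div hM
      (m := p ^ blockDefect p b * charDegree ((η : IrrCharacter K) : K → ℂ)) (n := Nat.card K)
      (mul_ne_zero (pow_ne_zero _ hM.1.ne_zero) (Chars.charDegree_pos _).ne') Nat.card_pos.ne' (by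
      rw [Nat.factorization_mul (pow_ne_zero _ hM.1.ne_zero) (Chars.charDegree_pos _).ne',
        Finsupp.add_apply, factorization_pow_prime hM.1, blockDefect_eq]
      have := minExp_le (p := p) (hmem η)
      omega)
    rwa [Nat.cast_mul, Nat.cast_pow, Chars.coe_charDegree, mul_div_right_comm] at h
  have hσloc : MemLocalRing M (σ j * σ l) :=
    mem_localRing.1 (mul_mem (mem_localRing.2 (hσj j)) (mem_localRing.2 (hσj l)))
  exact memLocalIdeal_mul_left hσloc hmain

end rows

variable {G : Type u} [Group G] [Fintype G] {p : ℕ} {M : Ideal AlgInt} {u : G}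
  {H : Subgroup G} [Fintype H] {b : Set (IrrCharacter H)} {B : Set (IrrCharacter G)}

/-- With all heights zero the scaled pairings are units. -/
theorem not_dvd_scaledPair (hM : IsPModular p M) (hb : IsPBlock M b)
    (hd : blockDefect p b ≤ 2) (R : Matrix b.toFinite.toFinset b.toFinite.toFinset ℤ)
    (hR : ∀ ξ η, (R ξ η : ℂ) = (p : ℂ) ^ blockDefect p b / (Nat.card H : ℂ) *
      regPair p ((ξ : IrrCharacter H) : H → ℂ) ((η : IrrCharacter H) : H → ℂ))
    (ξ η : b.toFinite.toFinset) : ¬ (p : ℤ) ∣ R ξ η := by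
  classical
  have := isMaximal_of_isPModular hM
  have hmem : ∀ ξ : b.toFinite.toFinset, (ξ : IrrCharacter H) ∈ b :=
    fun ξ => (Set.Finite.mem_toFinset _).1 ξ.2
  have hh : ∀ ξ : b.toFinite.toFinset,
      blockHeight p b ((ξ : IrrCharacter H) : H → ℂ) = 0 := fun ξ => by
    by_contra h
    have := height_add_two_le_blockDefect hM hb (hmem ξ) h
    omega
  rw [← intCast_mem_iff hM, ← memLocalIdeal_coe_iff (M := M)]
  have e : (((R ξ η : ℤ) : AlgInt) : ℂ) =
      ((p : ℂ) ^ blockDefect p b / (Nat.card H : ℂ) * ((η : IrrCharacter H) : H → ℂ) 1) *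
        (regPair p ((ξ : IrrCharacter H) : H → ℂ) ((η : IrrCharacter H) : H → ℂ) /
          ((η : IrrCharacter H) : H → ℂ) 1) := by
    push_cast
    rw [hR]
    field_simp [Chars.map_one_ne_zero (η : IrrCharacter H)]
  rw [e]
  exact not_memLocalIdeal_mul (scale_local hM (hmem η))
    (memLocalRing_regPair hM (Chars.isClassFunction_coe _)
      (fun x _ => memLocalRing_apply (Chars.isCharacter_coe _) x) _)
    (scale_unit hM (hmem η) (hh η))
    (not_memLocalIdeal_regPair_of_height_zero hM hb (hmem ξ) (hh ξ) (hmem η))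

/-- A subsection of defect at most two with a central element of order `p` bounds the characters
with a nonvanishing contribution by `p ^ defect`. -/
theorem card_le_of_central (hM : IsPModular p M) (hH : H = Subgroup.centralizer ({u} : Set G))
    {n : ℕ} (hu : u ^ p ^ (n + 1) = 1) (hind : IsInducedBlock M H b B) {z : H}
    (hz : z ∈ Subgroup.center H) (hzp : orderOf z = p) (hd1 : 1 ≤ blockDefect p b)
    (hd2 : blockDefect p b ≤ 2) (S₀ : Finset (IrrCharacter G)) (hS₀ : ∀ χ ∈ S₀, χ ∈ B)
    (hne : ∀ χ ∈ S₀, ∀ j : ℕ, Subgroup.centralizer ({u ^ j} : Set G) = H →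
      (∃ e, orderOf (u ^ j) = p ^ e) → ∃ ψ ∈ B, contrib p b (u ^ j) χ ψ ≠ 0) :
    S₀.card ≤ p ^ blockDefect p b := by
  classical
  have := isMaximal_of_isPModular hM
  have hp := hM.1
  obtain ⟨r, U, S, A, -, hSs, -, ⟨hSdet, hUUS, hRval, V, hV⟩, hA⟩ :=
    exists_columns_full hM hH hu hind
  set d := blockDefect p b with hd
  obtain ⟨e, he⟩ : ∃ e, d = e + 1 := ⟨d - 1, by omega⟩
  set q : ℤ := (p : ℤ) ^ e with hq
  have hpZ : (p : ℤ) ≠ 0 := by exact_mod_cast hp.ne_zero
  have hq0 : q ≠ 0 := pow_ne_zero _ hpZ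
  have hqd : (p : ℤ) ^ d = (p : ℤ) * q := by rw [he, pow_succ']
  set R := U * S * Uᵀ with hR
  set T := B.toFinite.toFinset with hT
  set R₀ := primitiveRoots (p ^ (n + 1)) ℂ with hR₀
  have hRpos : 0 < R₀.card := by
    rw [hR₀, Complex.card_primitiveRoots]; exact Nat.totient_pos.2 (pow_pos hp.pos _)
  obtain ⟨μ₀, hμ₀⟩ := Finset.card_pos.1 hRpos
  have hαne : ∀ χ ∈ S₀, (fun i => aeval μ₀ (A χ i)) ≠ 0 := by
    intro χ hχ h0
    obtain ⟨⟨j, hC, hord, hval⟩, -⟩ := hA μ₀ hμ₀
    obtain ⟨ψ, -, hψne⟩ := hne χ hχ j hC hord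
    apply hψne
    rw [hval]
    exact Finset.sum_eq_zero fun i _ => Finset.sum_eq_zero fun l _ => by
      rw [show aeval μ₀ (A χ i) = 0 from congrFun h0 i]; simp
  -- the rows trivial on `z`
  set J := b.toFinite.toFinset.filter (fun η : IrrCharacter H => (η : H → ℂ) z = (η : H → ℂ) 1)
    with hJ
  have hJb : ∀ η : J, (η : IrrCharacter H) ∈ b.toFinite.toFinset :=
    fun η => (Finset.mem_filter.1 η.2).1
  set U₀ : Matrix J (Fin r) ℤ := Matrix.of fun η i => U ⟨η, hJb η⟩ i with hU₀
  set X := U₀ᵀ * U₀ with hX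
  have hUUp : Uᵀ * U = (p : ℤ) • X := by
    have h1 : (p : ℤ) • (U * S * X * S * Uᵀ) = ((p : ℤ) * q) • R := by
      ext ξ θ
      apply Int.cast_injective (α := ℂ)
      have h2 : ∑ η : J, (R ξ ⟨η, hJb η⟩ : ℂ) * (R ⟨η, hJb η⟩ θ : ℂ) =
          (((U * S * X * S * Uᵀ) ξ θ : ℤ) : ℂ) := by
        have h3 : U * S * X * S * Uᵀ = (U * S * U₀ᵀ) * (U₀ * S * Uᵀ) := by
          simp only [hX, Matrix.mul_assoc]
        rw [h3, Matrix.mul_apply (M := U * S * U₀ᵀ)]
        push_cast
        refine Finset.sum_congr rfl fun η _ => ?_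
        simp [hR, hU₀, Matrix.mul_apply]
      simp only [Matrix.smul_apply, smul_eq_mul]
      rw [Int.cast_mul, ← h2, Int.cast_mul (↑p * q), ← hqd, Int.cast_natCast]
      simp only [hRval]
      rw [Finset.sum_congr rfl fun η _ => mul_mul_mul_comm _ _ _ _, ← Finset.mul_sum,
        Finset.sum_coe_sort J fun η : IrrCharacter H => regPair p ((ξ : IrrCharacter H) : H → ℂ)
          (η : H → ℂ) * regPair p (η : H → ℂ) ((θ : IrrCharacter H) : H → ℂ),
        mul_left_comm, hJ, regPair_mul_sum_central hM hind.1 hz hzp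
          ((Set.Finite.mem_toFinset _).1 θ.2)]
      have hH0 : (Nat.card H : ℂ) ≠ 0 := Chars.natCard_ne_zero
      push_cast
      field_simp
    have h4 := congrArg (fun Z => Uᵀ * Z * U) h1
    simp only [Matrix.mul_smul, Matrix.smul_mul] at h4
    have hSUU : S * (Uᵀ * U) = ((p : ℤ) * q) • (1 : Matrix (Fin r) (Fin r) ℤ) := by
      have := congrArg Matrix.transpose hUUS
      rwa [Matrix.transpose_mul, Matrix.transpose_mul, Matrix.transpose_transpose, hSs,
        Matrix.transpose_smul, Matrix.transpose_one, hqd] at this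
    rw [hqd] at hUUS
    rw [show Uᵀ * (U * S * X * S * Uᵀ) * U = (Uᵀ * U * S) * X * (S * (Uᵀ * U)) by
        simp only [Matrix.mul_assoc],
      show Uᵀ * R * U = (Uᵀ * U * S) * (Uᵀ * U) by simp only [hR, Matrix.mul_assoc],
      hUUS, hSUU] at h4
    simp only [Matrix.smul_mul, Matrix.mul_smul, Matrix.one_mul, Matrix.mul_one, smul_smul] at h4
    ext i l
    have h5 := congrFun (congrFun h4 i) l
    simp only [Matrix.smul_apply, smul_eq_mul] at h5 ⊢
    have hne2 : ((p : ℤ) * q) * ((p : ℤ) * q) ≠ 0 := by positivity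
    exact mul_left_cancel₀ hne2 (by linear_combination -h5)
  have hXS : X * S = q • (1 : Matrix (Fin r) (Fin r) ℤ) := by
    have h := hUUS
    rw [hUUp, hqd, Matrix.smul_mul, ← smul_smul] at h
    ext i l
    have h5 := congrFun (congrFun h i) l
    simp only [Matrix.smul_apply, smul_eq_mul] at h5 ⊢
    exact mul_left_cancel₀ hpZ h5
  rcases r with _ | m
  · rcases S₀.eq_empty_or_nonempty with h | ⟨χ, hχ⟩
    · simp [h]
    · exact absurd (_root_.funext fun i : Fin 0 => i.elim0) (hαne χ hχ)
  -- the determinant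
  have hdetX : X.det * (p : ℤ) ^ m ≤ q ^ (m + 1) := by
    have hdvd : (p : ℤ) ^ m ∣ S.det := Compound.pow_dvd_det (Nat.prime_iff_prime_int.1 hp) S
      fun i j k l => by
        have hVR : ∀ a c, S a c = ∑ y, ∑ x, V x a * R x y * V y c := fun a c => by
          conv_lhs => rw [hV]
          simp [Matrix.mul_apply, Finset.sum_mul]
        set w : (b.toFinite.toFinset × b.toFinite.toFinset) → Fin (m + 1) → Fin (m + 1) → ℤ :=
          fun yx a c => V yx.2 a * R yx.2 yx.1 * V yx.1 c with hw
        have hVR' : ∀ a c, S a c = ∑ yx, w yx a c := fun a c => by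
          rw [hVR, Fintype.sum_prod_type]
        simp only [hVR', Finset.sum_mul_sum]
        -- exchange the two columns in the second product
        have hswap : ∑ s, ∑ t, w s i l * w t k j = ∑ s : b.toFinite.toFinset × b.toFinite.toFinset,
            ∑ t : b.toFinite.toFinset × b.toFinite.toFinset,
              (V s.2 i * R s.2 t.1 * V t.1 l) * (V t.2 k * R t.2 s.1 * V s.1 j) := by
          rw [← Fintype.sum_prod_type', ← Fintype.sum_prod_type']
          refine Fintype.sum_equiv
            ⟨fun st => ((st.2.1, st.1.2), (st.1.1, st.2.2)),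
              fun st => ((st.2.1, st.1.2), (st.1.1, st.2.2)), fun _ => rfl, fun _ => rfl⟩ _ _
            fun st => ?_
          simp [hw]
        rw [hswap, ← Finset.sum_sub_distrib]
        refine Finset.dvd_sum fun s _ => ?_
        rw [← Finset.sum_sub_distrib]
        refine Finset.dvd_sum fun t _ => ?_
        have e : w s i j * w t k l - V s.2 i * R s.2 t.1 * V t.1 l * (V t.2 k * R t.2 s.1 * V s.1 j) =
            (R s.2 s.1 * R t.2 t.1 - R s.2 t.1 * R t.2 s.1) *
              (V s.2 i * V s.1 j * V t.2 k * V t.1 l) := by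
          simp only [hw]; ring
        rw [e]
        exact (dvd_minor_scaledPair hM hind.1 R hRval _ _ _ _).mul_right _
    have hsqnn : 0 ≤ X.det := by
      have h := Compound.sum_det_sq U₀
      have h1 : (0 : ℤ) ≤ (Nat.factorial (m + 1) : ℤ) * X.det :=
        h ▸ Finset.sum_nonneg fun F _ => sq_nonneg _
      exact nonneg_of_mul_nonneg_right (a := (Nat.factorial (m + 1) : ℤ)) h1
        (by exact_mod_cast Nat.factorial_pos _)
    have h1 : X.det * S.det = q ^ (m + 1) := by
      rw [← Matrix.det_mul, hXS, Matrix.det_smul, Matrix.det_one, Fintype.card_fin, mul_one]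
    have hqpos : 0 < q := pow_pos (by exact_mod_cast hp.pos) _
    have hXpos : 0 < X.det := lt_of_le_of_ne hsqnn fun h0 => by
      rw [← h0, zero_mul] at h1; exact (pow_pos hqpos _).ne h1
    have hSpos : 0 < S.det := pos_of_mul_pos_right (h1 ▸ pow_pos hqpos _) hXpos.le
    rw [← h1]
    exact mul_le_mul_of_nonneg_left (Int.le_of_dvd hSpos hdvd) hXpos.le
  -- no row is a coloop
  have hrow : ∀ ξ : J, ∀ v : Fin (m + 1) → ℂ, m ≠ 0 →
      (∀ η, η ≠ ξ → (U₀.map fun t : ℤ => (t : ℂ)) η ⬝ᵥ v = 0) → v = 0 := by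
    intro ξ v hm hv
    set φ := Int.castRingHom ℂ with hφ
    obtain ⟨η, hηξ⟩ : ∃ η : J, η ≠ ξ := by
      by_contra hcon
      push Not at hcon
      have hz0 : (Nat.factorial (m + 1) : ℤ) * X.det = 0 := by
        rw [← Compound.sum_det_sq U₀]
        refine Finset.sum_eq_zero fun F _ => ?_
        rw [Matrix.det_zero_of_row_eq (i := 0) (j := Fin.last m)
          (fun h => hm (by simpa [Fin.ext_iff] using h.symm))
          (funext fun c => by simp [hcon (F 0), hcon (F (Fin.last m))])]
        simp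
      have h1 : X.det * S.det = q ^ (m + 1) := by
        rw [← Matrix.det_mul, hXS, Matrix.det_smul, Matrix.det_one, Fintype.card_fin, mul_one]
      rw [(mul_eq_zero.1 hz0).resolve_left (by exact_mod_cast Nat.factorial_ne_zero _),
        zero_mul] at h1
      exact pow_ne_zero _ hq0 h1.symm
    set Uc := U₀.map φ with hUc
    set Sc := S.map φ with hSc
    set t := Uc ξ ⬝ᵥ v with ht
    have hXv : (X.map φ) *ᵥ v = fun i => Uc ξ i * t := by
      rw [hX, Matrix.map_mul, show U₀ᵀ.map φ = Ucᵀ from rfl, ← hUc, ← Matrix.mulVec_mulVec]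
      funext i
      rw [Matrix.mulVec, dotProduct]
      rw [Finset.sum_eq_single ξ (fun y _ hy => ?_) (fun h => absurd (Finset.mem_univ _) h)]
      · rfl
      · rw [show (Uc *ᵥ v) y = 0 from hv y hy, mul_zero]
    have hSX : S * X = q • (1 : Matrix (Fin (m + 1)) (Fin (m + 1)) ℤ) := by
      have := congrArg Matrix.transpose hXS
      rwa [Matrix.transpose_mul, hSs, hX, Matrix.transpose_mul, Matrix.transpose_transpose, ← hX,
        Matrix.transpose_smul, Matrix.transpose_one] at this
    have hqv : (q : ℂ) • v = Sc *ᵥ fun i => Uc ξ i * t := by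
      rw [← hXv, hSc, Matrix.mulVec_mulVec, ← Matrix.map_mul, hSX]
      rw [show (q • (1 : Matrix (Fin (m + 1)) (Fin (m + 1)) ℤ)).map φ = (q : ℂ) • 1 by
        ext a c
        simp only [Matrix.map_apply, Matrix.smul_apply, Matrix.one_apply, smul_eq_mul]
        split_ifs <;> simp [hφ], Matrix.smul_mulVec, Matrix.one_mulVec]
    have hzero : (R ⟨η, hJb η⟩ ⟨ξ, hJb ξ⟩ : ℂ) * t = 0 := by
      have h := congrArg (fun w => Uc η ⬝ᵥ w) hqv
      simp only [dotProduct_smul, show Uc η ⬝ᵥ v = 0 from hv η hηξ, smul_zero] at h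
      rw [h]
      simp [hR, hUc, hSc, hU₀, hφ, Matrix.mulVec, dotProduct, Matrix.mul_apply, Finset.mul_sum,
        Finset.sum_mul]
      rw [Finset.sum_comm]
      exact Finset.sum_congr rfl fun _ _ => Finset.sum_congr rfl fun _ _ => by ring
    have hRne : (R ⟨η, hJb η⟩ ⟨ξ, hJb ξ⟩ : ℂ) ≠ 0 := by
      rw [Int.cast_ne_zero]
      intro h0
      exact not_dvd_scaledPair hM hind.1 hd2 R hRval _ _ (h0 ▸ dvd_zero _)
    have ht0 : t = 0 := (mul_eq_zero.1 hzero).resolve_left hRne
    have hqv0 : (q : ℂ) • v = 0 := by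
      rw [hqv, ht0]
      simp [← Pi.zero_def]
    exact (smul_eq_zero.1 hqv0).resolve_left (by exact_mod_cast hq0)
  -- the linear forms
  set c : (Fin m → J) → Fin (m + 1) → ℤ := fun f i =>
    (-1) ^ (i : ℕ) * ((U₀.submatrix f id).submatrix id i.succAbove).det with hc
  have hlap : ∀ (K : Type) [CommRing K] (φ : ℤ →+* K) (f : Fin m → J) (x : Fin (m + 1) → K),
      (Matrix.of (Fin.cons x fun i => (U₀.map φ) (f i) : Fin (m + 1) → Fin (m + 1) → K)).det =
        ∑ i, x i * φ (c f i) := by
    intro K _ φ f x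
    rw [Matrix.det_succ_row_zero]
    refine Finset.sum_congr rfl fun i _ => ?_
    simp only [hc, map_mul, map_pow, map_neg, map_one, RingHom.map_det, RingHom.mapMatrix_apply]
    simp only [Matrix.of_apply, Fin.cons_zero]
    rw [show ((Matrix.of (Fin.cons x fun i => (U₀.map φ) (f i) :
        Fin (m + 1) → Fin (m + 1) → K)).submatrix Fin.succ i.succAbove) =
        (((U₀.submatrix f id).submatrix id i.succAbove).map φ) by ext; simp]
    ring
  -- each character is seen by many forms
  set L : (Fin m → J) → IrrCharacter G → ℤ[X] := fun f χ => ∑ i, A χ i * C (c f i) with hL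
  have hlower : ∀ χ ∈ S₀, (Nat.factorial (m + 1) : ℝ) * R₀.card ≤
      ∑ f : Fin m → J, ∑ μ ∈ R₀, ‖aeval μ (L f χ)‖ ^ 2 := by
    intro χ hχ
    have hcnt := Compound.factorial_le_card_nonvanishing (U₀.map fun t : ℤ => (t : ℂ))
      (fun hm => by
        by_contra hcon
        have : IsEmpty J := not_nonempty_iff.1 hcon
        have hX0 : X = 0 := by ext i l; simp [hX, Matrix.mul_apply]
        have h1 := hXS
        rw [hX0, Matrix.zero_mul] at h1
        have := congrFun (congrFun h1 0) 0
        simp at this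
        exact hq0 this.symm)
      (fun hm ξ v hv => hrow ξ v hm hv) (x := fun i => aeval μ₀ (A χ i)) (hαne χ hχ)
    calc (Nat.factorial (m + 1) : ℝ) * R₀.card
        ≤ _ * (R₀.card : ℝ) := mul_le_mul_of_nonneg_right (Nat.cast_le.2 hcnt) (Nat.cast_nonneg _)
      _ = ∑ f ∈ Finset.univ.filter _, (R₀.card : ℝ) := by rw [Finset.sum_const, nsmul_eq_mul]
      _ ≤ _ := by
          refine le_trans (Finset.sum_le_sum fun f hf => ?_) (Finset.sum_le_sum_of_subset_of_nonneg
            (Finset.filter_subset _ _) fun f _ _ => Finset.sum_nonneg fun μ _ => sq_nonneg _)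
          refine (CycloNorm.sum_norm_sq_bounds hp n _ ⟨μ₀, hμ₀, fun h0 => (Finset.mem_filter.1 hf).2 ?_⟩).1
          refine (hlap ℂ (Int.castRingHom ℂ) f _).trans ?_
          rw [← h0]
          simp [hL]
  -- the total
  have htot : ∀ μ ∈ R₀, ∑ f : Fin m → J, ∑ χ ∈ T, ‖aeval μ (L f χ)‖ ^ 2 =
      (p : ℝ) * ((Nat.factorial (m + 1) : ℝ) * (X.det : ℝ)) := by
    intro μ hμ
    have hgram : ∀ i k, ∑ χ ∈ T, conj (aeval μ (A χ i)) * aeval μ (A χ k) =
        (p : ℂ) * (X i k : ℂ) := by
      set Y : Matrix (Fin (m + 1)) (Fin (m + 1)) ℂ :=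
        Matrix.of fun i k => ∑ χ ∈ T, conj (aeval μ (A χ i)) * aeval μ (A χ k) with hY
      have hYS : Y * S.map (Int.castRingHom ℂ) =
          (((p : ℤ) • X).map (Int.castRingHom ℂ)) * S.map (Int.castRingHom ℂ) := by
        rw [← Matrix.map_mul, ← hUUp, hUUS]
        ext i l
        have h := (hA μ hμ).2 i l
        rw [Finset.sum_comm] at h
        simp only [hY, Matrix.mul_apply, Matrix.of_apply, Matrix.map_apply, Finset.sum_mul,
          Matrix.smul_apply, Matrix.one_apply, eq_intCast]
        rw [h]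
        simp
      have hdetc : (S.map (Int.castRingHom ℂ)).det ≠ 0 := by
        rw [← RingHom.mapMatrix_apply, ← RingHom.map_det, eq_intCast, Int.cast_ne_zero]
        exact hSdet
      have hT' := congrArg Matrix.transpose hYS
      rw [Matrix.transpose_mul, Matrix.transpose_mul] at hT'
      have hYX := Matrix.transpose_injective
        (Factor.eq_of_mul_eq_mul_left_of_det_ne_zero (by rwa [Matrix.det_transpose]) hT')
      intro i k
      have h := congrFun (congrFun hYX i) k
      simp only [hY, Matrix.of_apply, Matrix.map_apply, Matrix.smul_apply, smul_eq_mul,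
        eq_intCast, Int.cast_mul, Int.cast_natCast] at h
      exact h
    apply Complex.ofReal_injective
    simp only [Complex.ofReal_mul, Complex.ofReal_sum, Complex.ofReal_pow, Complex.ofReal_natCast,
      Complex.ofReal_intCast]
    have h1 : ∀ f : Fin m → J, ∑ χ ∈ T, ((‖aeval μ (L f χ)‖ : ℝ) : ℂ) ^ 2 =
        (p : ℂ) * ∑ η : J, ((∑ i, U₀ η i * c f i : ℤ) : ℂ) ^ 2 := by
      intro f
      simp only [← Complex.conj_mul', hL, map_sum, map_mul, aeval_C, eq_intCast, map_intCast,
        Finset.sum_mul_sum]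
      rw [Finset.sum_comm, Finset.sum_congr rfl fun i _ => Finset.sum_comm]
      rw [Finset.sum_congr rfl fun i _ => Finset.sum_congr rfl fun k _ => show
        ∑ χ ∈ T, conj (aeval μ (A χ i)) * (c f i : ℂ) * (aeval μ (A χ k) * (c f k : ℂ)) =
          (p : ℂ) * (X i k : ℂ) * ((c f i : ℂ) * (c f k : ℂ)) by
        rw [← hgram i k, Finset.sum_mul]
        exact Finset.sum_congr rfl fun χ _ => by ring]
      simp only [hX, Matrix.mul_apply, Matrix.transpose_apply, Int.cast_sum, Int.cast_mul, sq,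
        Finset.sum_mul_sum, Finset.mul_sum, Finset.sum_mul]
      rw [Finset.sum_congr rfl fun i _ => Finset.sum_comm, Finset.sum_comm]
      exact Finset.sum_congr rfl fun η _ => Finset.sum_congr rfl fun i _ =>
        Finset.sum_congr rfl fun k _ => by ring
    rw [Finset.sum_congr rfl fun f _ => h1 f, ← Finset.mul_sum]
    congr 1
    have h2 : ∀ f : Fin m → J, ∀ η : J, (∑ i, U₀ η i * c f i) =
        (U₀.submatrix (Fin.cons η f) id).det := fun f η => by
      have h := hlap ℤ (RingHom.id ℤ) f (U₀ η)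
      simp only [RingHom.id_apply] at h
      rw [← h]
      congr 1
      ext i l
      refine Fin.cases ?_ (fun i => ?_) i <;> simp
    simp only [h2]
    rw [show (Nat.factorial (m + 1) : ℂ) * (X.det : ℂ) =
      (((Nat.factorial (m + 1) : ℤ) * X.det : ℤ) : ℂ) by push_cast; rfl,
      ← Compound.sum_det_sq U₀, Int.cast_sum]
    rw [← (Fin.consEquiv fun _ : Fin (m + 1) => (J : Type u)).sum_comp, Fintype.sum_prod_type,
      Finset.sum_comm]
    refine Finset.sum_congr rfl fun f _ => Finset.sum_congr rfl fun η _ => ?_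
    rw [Int.cast_pow]
    rfl
  have hfin : (S₀.card : ℝ) ≤ (p : ℝ) * (X.det : ℝ) := by
    have hfpos : (0 : ℝ) < (Nat.factorial (m + 1) : ℝ) * R₀.card := by
      exact mul_pos (Nat.cast_pos.2 (Nat.factorial_pos _)) (Nat.cast_pos.2 hRpos)
    have h1 : (S₀.card : ℝ) * ((Nat.factorial (m + 1) : ℝ) * R₀.card) ≤
        (p : ℝ) * (X.det : ℝ) * ((Nat.factorial (m + 1) : ℝ) * R₀.card) := by
      calc (S₀.card : ℝ) * ((Nat.factorial (m + 1) : ℝ) * R₀.card)
          = ∑ _χ ∈ S₀, (Nat.factorial (m + 1) : ℝ) * R₀.card := by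
            rw [Finset.sum_const, nsmul_eq_mul]
        _ ≤ ∑ χ ∈ S₀, ∑ f : Fin m → J, ∑ μ ∈ R₀, ‖aeval μ (L f χ)‖ ^ 2 := Finset.sum_le_sum hlower
        _ ≤ ∑ χ ∈ T, ∑ f : Fin m → J, ∑ μ ∈ R₀, ‖aeval μ (L f χ)‖ ^ 2 :=
            Finset.sum_le_sum_of_subset_of_nonneg
              (fun χ hχ => (Set.Finite.mem_toFinset _).2 (hS₀ χ hχ))
              fun χ _ _ => Finset.sum_nonneg fun f _ => Finset.sum_nonneg fun μ _ => sq_nonneg _
        _ = ∑ μ ∈ R₀, ∑ f : Fin m → J, ∑ χ ∈ T, ‖aeval μ (L f χ)‖ ^ 2 := by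
            rw [Finset.sum_comm, Finset.sum_comm (s := R₀)]
            exact Finset.sum_congr rfl fun f _ => Finset.sum_comm
        _ = _ := by rw [Finset.sum_congr rfl htot, Finset.sum_const, nsmul_eq_mul]; ring
    exact le_of_mul_le_mul_right h1 hfpos
  -- arithmetic
  have hfinZ : (S₀.card : ℤ) ≤ (p : ℤ) * X.det := by exact_mod_cast hfin
  have he1 : e = 0 ∨ e = 1 := by omega
  have hp1 : (1 : ℤ) ≤ (p : ℤ) := by exact_mod_cast hp.one_le
  suffices h : (S₀.card : ℤ) ≤ ((p ^ d : ℕ) : ℤ) by exact_mod_cast h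
  rw [Nat.cast_pow, hqd]
  refine hfinZ.trans (mul_le_mul_of_nonneg_left ?_ (by positivity))
  rcases he1 with rfl | rfl
  · simp only [hq, pow_zero, one_pow] at hdetX ⊢
    by_contra hlt
    nlinarith [one_le_pow₀ (n := m) hp1]
  · simp only [hq, pow_one] at hdetX ⊢
    rw [pow_succ'] at hdetX
    exact le_of_mul_le_mul_right hdetX (pow_pos (by linarith) m)

end CfsgLib.Blocks.Contrib
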