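import Cfsg.Agent.Blocks.Subsection.MajorExists
import Cfsg.Agent.Blocks.Subsection.CentralRows
import Cfsg.Agent.Blocks.HeightZero.PrincipalSection
import Cfsg.Agent.S4733

/-!
# A block of defect at most two has at most `p ^ d` characters
-/

set_option autoImplicit false
open Cfsg CfsgLib CfsgLib.Blocks CfsgLib.Blocks.HeightZero

namespace CfsgLib.Blocks.Contrib

universe u

variable {G : Type u} [Group G] [Finite G] {p : ℕ} {M : Ideal AlgInt} {B : Set (IrrCharacter G)}

theorem natCard_le_of_defect_le_two (hM : IsPModular p M) (hB : IsPBlock M B)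
    (hd : blockDefect p B ≤ 2) : Nat.card B ≤ p ^ blockDefect p B := by
  classical
  have : Fact p.Prime := ⟨hM.1⟩
  have := Fintype.ofFinite G
  have := isMaximal_of_isPModular hM
  rcases Nat.eq_zero_or_pos (blockDefect p B) with h0 | h0
  · rw [((Cfsg.Agent.S4733.result p M hM B hB).2.1.1 h0).1, h0, pow_zero]
  obtain ⟨z, hz, b, hind, hmaj⟩ := exists_major_subsection hM hB h0
  have := Fintype.ofFinite (Subgroup.centralizer ({z} : Set G))
  set H := Subgroup.centralizer ({z} : Set G) with hH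
  have hzH : z ∈ H := Subgroup.mem_centralizer_singleton_iff.2 rfl
  have hzc : (⟨z, hzH⟩ : H) ∈ Subgroup.center H :=
    Subgroup.mem_center_iff.2 fun c => Subtype.ext (Subgroup.mem_centralizer_singleton_iff.1 c.2)
  have hu : z ^ p ^ (0 + 1) = 1 := by rw [zero_add, pow_one, ← hz, pow_orderOf_eq_one]
  obtain ⟨χ₀, hχ₀, hh0⟩ := exists_height_zero (p := p) hB
  have h := card_le_of_central hM hH hu hind hzc (by rw [Subgroup.orderOf_mk, hz]) (by omega)
    (by omega) B.toFinite.toFinset (fun χ hχ => (Set.Finite.mem_toFinset _).1 hχ)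
    fun χ hχ j hC hord => ⟨χ₀, hχ₀,
      (major_facts hM hH hu hind hmaj hC hord).1 χ ((Set.Finite.mem_toFinset _).1 hχ) χ₀ hχ₀ hh0⟩
  rwa [hmaj, ← Set.ncard_eq_toFinset_card B B.toFinite, ← Nat.card_coe_set_eq] at h

end CfsgLib.Blocks.Contrib
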